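import Cfsg.Agent.H66.Powell.DerivedBound

/-!
The complement argument: in a group whose solvable two-generated subgroups have derived length at
most `k + 1`, an `s`-subgroup of the `k`-th derived subgroup of a solvable `⟨e₁, e₂⟩` centralises
every abelian `ℓ`-subgroup normalised by `e₁, e₂` (`ℓ ≠ s`).
-/

set_option autoImplicit false

open Subgroup
open scoped commutatorElement

namespace H66.Powell

variable {W : Type*} [Group W]

theorem mem_sup_iff_of_le_normalizer {A D : Subgroup W} (hD : D ≤ normalizer (A : Set W)) {x : W} :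
    x ∈ A ⊔ D ↔ ∃ a ∈ A, ∃ d ∈ D, a * d = x := by
  rw [← SetLike.mem_coe, coe_mul_of_right_le_normalizer_left A D hD, Set.mem_mul]
  simp only [SetLike.mem_coe]

theorem conj_mem_of_mem_normalizer {A : Subgroup W} {d a : W} (hd : d ∈ normalizer (A : Set W))
    (ha : a ∈ A) : d * a * d⁻¹ ∈ A :=
  (mem_set_normalizer_iff.mp hd a).mp ha

theorem sup_dser_succ_le {A D : Subgroup W} (hD : D ≤ normalizer (A : Set W)) {E : Subgroup W}
    (hE : E ≤ A ⊔ D) (n : ℕ) : dser E n ≤ A ⊔ dser D n := by
  induction n with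
  | zero => exact hE
  | succ n ih =>
    have hDn : dser D n ≤ normalizer (A : Set W) := (dser_le D n).trans hD
    rw [dser, commutator_le]
    intro u hu v hv
    obtain ⟨a, ha, c, hc, rfl⟩ := (mem_sup_iff_of_le_normalizer hDn).mp (ih hu)
    obtain ⟨b, hb, e, he, rfl⟩ := (mem_sup_iff_of_le_normalizer hDn).mp (ih hv)
    have h1 : ⁅a * c, b * e⁆ =
        (a * (c * b * c⁻¹)) * ⁅c, e⁆ * ((e * a⁻¹ * e⁻¹) * b⁻¹) := by
      simp only [commutatorElement_def]; group
    rw [h1]
    refine mul_mem (mul_mem (mem_sup_left (mul_mem ha ?_))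
      (mem_sup_right (commutator_mem_commutator hc he))) (mem_sup_left (mul_mem ?_ (inv_mem hb)))
    · exact conj_mem_of_mem_normalizer (hDn hc) hb
    · exact conj_mem_of_mem_normalizer (hDn he) (inv_mem ha)

/-- An element whose order is both a power of `ℓ` and a power of `s` is trivial. -/
theorem eq_one_of_two_prime_powers {ℓ s : ℕ} (hℓ : ℓ.Prime) (hs : s.Prime) (hne : ℓ ≠ s) {x : W}
    {m n : ℕ} (h1 : x ^ ℓ ^ m = 1) (h2 : x ^ s ^ n = 1) : x = 1 := by
  have h := (pow_gcd_eq_one (a := x)).mpr ⟨h1, h2⟩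
  rwa [(Nat.Coprime.pow m n ((Nat.coprime_primes hℓ hs).mpr hne)).gcd_eq_one, pow_one] at h

/-- The complement count. -/
theorem no_abelian_section [Finite W] {ℓ s : ℕ} (hℓ : ℓ.Prime) (hs : s.Prime) (hne : ℓ ≠ s) {k : ℕ}
    (hW : Bound (k + 1) W) {A : Subgroup W} (hAℓ : IsPGroup ℓ A)
    (hAab : ∀ a ∈ A, ∀ b ∈ A, a * b = b * a) (hA : A ≠ ⊥) {e1 e2 : W}
    (hn : closure {e1, e2} ≤ normalizer (A : Set W))
    (hsol : ∃ m, dser (closure {e1, e2}) m = ⊥)
    {Γ : Subgroup W} (hΓ : Γ ≤ dser (closure {e1, e2}) k) (hΓs : IsPGroup s Γ)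
    (hΓn : closure {e1, e2} ≤ normalizer (Γ : Set W))
    (hfix : ∀ a ∈ A, (∀ x ∈ Γ, x * a = a * x) → a = 1) : False := by
  classical
  haveI := Fact.mk hℓ
  haveI := Fact.mk hs
  set E := closure {e1, e2}
  have hΓE : Γ ≤ E := hΓ.trans (dser_le E k)
  have hAΓ : ∀ a ∈ A, a ∈ Γ → a = 1 := by
    intro a ha hg
    obtain ⟨m, hm⟩ := hAℓ ⟨a, ha⟩
    obtain ⟨n, hn'⟩ := hΓs ⟨a, hg⟩
    exact eq_one_of_two_prime_powers hℓ hs hne
      (m := m) (n := n) (by simpa using congrArg Subtype.val hm)
      (by simpa using congrArg Subtype.val hn')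
  -- `A` meets `E` trivially
  have hAE : ∀ a ∈ A, a ∈ E → a = 1 := by
    intro a ha haE
    refine hfix a ha fun x hx => ?_
    have h1 : a * x * a⁻¹ * x⁻¹ ∈ Γ :=
      mul_mem (conj_mem_of_mem_normalizer (hΓn haE) hx) (inv_mem hx)
    have h2 : a * x * a⁻¹ * x⁻¹ ∈ A := by
      have := mul_mem ha (conj_mem_of_mem_normalizer (hn (hΓE hx)) (inv_mem ha))
      simpa [mul_assoc] using this
    exact (commutatorElement_eq_one_iff_mul_comm.mp (hAΓ _ h2 h1)).symm
  -- every pair of translates is a pair of conjugates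
  have key : ∀ a1 ∈ A, ∀ a2 ∈ A, ∃ a ∈ A,
      a1 * e1 = a * e1 * a⁻¹ ∧ a2 * e2 = a * e2 * a⁻¹ := by
    intro a1 h1 a2 h2
    set J := closure {a1 * e1, a2 * e2}
    have he1 : e1 ∈ E := subset_closure (by simp)
    have he2 : e2 ∈ E := subset_closure (by simp)
    have hj1 : a1 * e1 ∈ J := subset_closure (by simp)
    have hj2 : a2 * e2 ∈ J := subset_closure (by simp)
    have hJN : J ≤ normalizer (A : Set W) := by
      rw [closure_le]
      rintro _ (rfl | rfl)
      · exact mul_mem (le_normalizer h1) (hn he1)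
      · exact mul_mem (le_normalizer h2) (hn he2)
    have hJE : J ≤ A ⊔ E := by
      rw [closure_le]
      rintro _ (rfl | rfl)
      · exact mul_mem (mem_sup_left h1) (mem_sup_right he1)
      · exact mul_mem (mem_sup_left h2) (mem_sup_right he2)
    have hEJ : E ≤ A ⊔ J := by
      rw [closure_le]
      rintro _ (rfl | rfl)
      · simpa using mul_mem (mem_sup_left (T := J) (inv_mem h1)) (mem_sup_right hj1)
      · simpa using mul_mem (mem_sup_left (T := J) (inv_mem h2)) (mem_sup_right hj2)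
    -- `J` is solvable, hence of derived length at most `k + 1`
    have hJsol : dser J (k + 1) = ⊥ := by
      obtain ⟨m, hm⟩ := hsol
      refine hW _ _ ⟨m + 1, ?_⟩
      have h : dser J m ≤ A := by
        refine (sup_dser_succ_le hn hJE m).trans ?_
        rw [hm, sup_bot_eq]
      refine le_bot_iff.mp ((commutator_mono h h).trans ?_)
      rw [commutator_le]
      intro a ha b hb
      rw [mem_bot]
      exact commutatorElement_eq_one_iff_mul_comm.mpr (hAab a ha b hb)
    -- lifts of the elements of `Γ`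
    have hlift : ∀ j, j ≤ k → ∀ x ∈ Γ, ∃ t ∈ A, t * x ∈ dser J j := by
      intro j hj x hx
      obtain ⟨t, ht, c, hc, htc⟩ :=
        (mem_sup_iff_of_le_normalizer ((dser_le J j).trans hJN)).mp
          (sup_dser_succ_le hJN hEJ j (dser_antitone E hj (hΓ hx)))
      exact ⟨t⁻¹, inv_mem ht, by rw [← htc, inv_mul_cancel_left]; exact hc⟩
    -- `J` meets `A` trivially
    have hB : ∀ i j, i + j = k + 1 → ∀ b ∈ A, b ∈ dser J j → b = 1 := by
      intro i
      induction i with
      | zero =>
        intro j hj b _ hb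
        rw [Nat.zero_add] at hj
        rwa [hj, hJsol, mem_bot] at hb
      | succ i ih =>
        intro j hj b hbA hb
        refine hfix b hbA fun x hx => ?_
        obtain ⟨t, ht, htx⟩ := hlift j (by omega) x hx
        have hxb : x * b⁻¹ * x⁻¹ ∈ A := conj_mem_of_mem_normalizer (hn (hΓE hx)) (inv_mem hbA)
        have heq : ⁅b, t * x⁆ = ⁅b, x⁆ := by
          calc ⁅b, t * x⁆ = b * (t * (x * b⁻¹ * x⁻¹) * t⁻¹) := by
                simp only [commutatorElement_def]; group
            _ = b * (x * b⁻¹ * x⁻¹) := by rw [hAab t ht _ hxb, mul_inv_cancel_right]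
            _ = ⁅b, x⁆ := by simp only [commutatorElement_def]; group
        have hmem : ⁅b, x⁆ ∈ dser J (j + 1) := heq ▸ commutator_mem_commutator hb htx
        have hmemA : ⁅b, x⁆ ∈ A := by
          rw [commutatorElement_def, mul_assoc, mul_assoc, ← mul_assoc x]
          exact mul_mem hbA hxb
        exact (commutatorElement_eq_one_iff_mul_comm.mp
          (ih (j + 1) (by omega) _ hmemA hmem)).symm
    have hB0 : ∀ b ∈ A, b ∈ J → b = 1 := hB (k + 1) 0 rfl
    have huniq : ∀ t ∈ A, ∀ t' ∈ A, ∀ x, t * x ∈ J → t' * x ∈ J → t = t' := by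
      intro t ht t' ht' x h h'
      refine mul_inv_eq_one.mp (hB0 _ (mul_mem ht (inv_mem ht')) ?_)
      have := mul_mem h (inv_mem h')
      simpa [mul_assoc] using this
    -- the cocycle is a coboundary
    have hlift0 : ∀ x : Γ, ∃ t : A, (t : W) * x ∈ J := fun x => by
      obtain ⟨t, ht, h⟩ := hlift 0 (Nat.zero_le _) x x.2
      exact ⟨⟨t, ht⟩, h⟩
    choose t ht using hlift0
    let c : Γ → A → A := fun x a =>
      ⟨x * a * (x : W)⁻¹, conj_mem_of_mem_normalizer (hn (hΓE x.2)) a.2⟩
    haveI : IsMulCommutative A := ⟨⟨fun a b => Subtype.ext (hAab a a.2 b b.2)⟩⟩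
    letI : CommGroup A := IsMulCommutative.instCommGroup
    haveI : Fintype Γ := Fintype.ofFinite _
    have hcmul : ∀ x a b, c x (a * b) = c x a * c x b := fun x a b =>
      Subtype.ext (by simp [c, mul_assoc])
    have hcoc : ∀ x y : Γ, t (x * y) = t x * c x (t y) := fun x y => by
      apply Subtype.ext
      refine huniq _ (t (x * y)).2 _ (t x * c x (t y)).2 ((x * y : Γ) : W) (ht _) ?_
      have := mul_mem (ht x) (ht y)
      simpa [c, mul_assoc] using this
    set u : A := ∏ y : Γ, t y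
    have hu : ∀ x : Γ, u = t x ^ Fintype.card Γ * c x u := fun x => by
      calc u = ∏ y : Γ, t (x * y) := (Equiv.prod_comp (Equiv.mulLeft x) t).symm
        _ = (∏ _y : Γ, t x) * ∏ y : Γ, c x (t y) := by
            rw [← Finset.prod_mul_distrib]; exact Finset.prod_congr rfl fun y _ => hcoc x y
        _ = t x ^ Fintype.card Γ * c x u := by
            rw [Finset.prod_const, Finset.card_univ]
            congr 1
            exact (map_prod (MonoidHom.mk' (c x) (hcmul x)) t Finset.univ).symm
    obtain ⟨n, hn'⟩ := hΓs.exists_card_eq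
    obtain ⟨m, hm⟩ := hAℓ.exists_card_eq
    have hco : (Nat.card A).Coprime (Fintype.card Γ) := by
      rw [← Nat.card_eq_fintype_card, hm, hn']
      exact Nat.Coprime.pow _ _ ((Nat.coprime_primes hℓ hs).mpr hne)
    set a : A := (powCoprime hco).symm u
    have ha : a ^ Fintype.card Γ = u := (powCoprime hco).apply_symm_apply u
    have hta : ∀ x : Γ, t x * c x a = a := fun x => by
      apply (powCoprime hco).injective
      simp only [powCoprime_apply, mul_pow, ha]
      have h3 : c x a ^ Fintype.card Γ = c x u := by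
        rw [← ha]; exact (map_pow (MonoidHom.mk' (c x) (hcmul x)) a _).symm
      rw [h3, ← hu x]
    have htW : ∀ x : Γ, (t x : W) * x = a * x * (a : W)⁻¹ := fun x => by
      have h := congrArg Subtype.val (hta x)
      simp only [Subgroup.coe_mul, c] at h
      rw [eq_mul_inv_iff_mul_eq]
      calc (t x : W) * x * a = (t x : W) * (x * a * (x : W)⁻¹) * x := by group
        _ = a * x := by rw [h]
    refine ⟨a, a.2, ?_⟩
    -- each translate is the conjugate by `a`
    have final : ∀ ai ∈ A, ∀ e ∈ E, ai * e ∈ J → ai * e = (a : W) * e * (a : W)⁻¹ := by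
      intro ai hai e he hj
      set b := (a : W)⁻¹ * (ai * e) * a * e⁻¹ with hb
      have hbA : b ∈ A := by
        have h := mul_mem (mul_mem (inv_mem a.2) hai) (conj_mem_of_mem_normalizer (hn he) a.2)
        have h' : b = (a : W)⁻¹ * ai * (e * a * e⁻¹) := by rw [hb]; group
        rwa [h']
      suffices hb1 : b = 1 by
        have h := congrArg (fun z => (a : W) * z * e * (a : W)⁻¹) hb1
        simp only [hb] at h
        simpa [mul_assoc] using h
      refine hfix b hbA fun y hy => ?_
      set x : Γ := ⟨e⁻¹ * y * e, by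
        have := conj_mem_of_mem_normalizer (inv_mem (hΓn he)) hy
        simpa using this⟩ with hx
      -- compare the two lifts of `y`
      have h1 : ai * e * (t x * x) * (ai * e)⁻¹ ∈ J :=
        mul_mem (mul_mem hj (ht x)) (inv_mem hj)
      have h2 : ai * e * (t x * x) * (ai * e)⁻¹ = (a : W) * (b * y * b⁻¹) * (a : W)⁻¹ := by
        rw [htW, hx, hb]; group
      set y' : Γ := ⟨y, hy⟩
      have hby : b * y * b⁻¹ * y⁻¹ ∈ A := by
        have := mul_mem hbA (conj_mem_of_mem_normalizer (hn (hΓE hy)) (inv_mem hbA))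
        simpa [mul_assoc] using this
      have h3 : (a : W) * (b * y * b⁻¹) * (a : W)⁻¹ =
          ((a : W) * (b * y * b⁻¹ * y⁻¹) * (y * (a : W)⁻¹ * y⁻¹)) * y := by group
      have h4 : (a : W) * y * (a : W)⁻¹ = (a * (y * (a : W)⁻¹ * y⁻¹)) * y := by group
      have h5 := huniq _ (mul_mem (mul_mem a.2 hby)
          (conj_mem_of_mem_normalizer (hn (hΓE hy)) (inv_mem a.2))) _
          (mul_mem a.2 (conj_mem_of_mem_normalizer (hn (hΓE hy)) (inv_mem a.2))) y
          (h3 ▸ h2 ▸ h1) (h4 ▸ htW y' ▸ ht y')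
      rw [mul_left_inj, mul_eq_left] at h5
      exact (commutatorElement_eq_one_iff_mul_comm.mp h5).symm
    exact ⟨final a1 h1 e1 he1 hj1, final a2 h2 e2 he2 hj2⟩
  -- counting
  have hlt : Nat.card A < Nat.card (A × A) := by
    rw [Nat.card_prod]
    exact lt_mul_of_one_lt_left Nat.card_pos ((one_lt_card_iff_ne_bot A).mpr hA)
  have hsurj : ∀ q : A × A, ∃ a : A, (q.1 : W) * e1 = a * e1 * (a : W)⁻¹ ∧
      (q.2 : W) * e2 = a * e2 * (a : W)⁻¹ := fun q => by
    obtain ⟨a, ha, h⟩ := key q.1 q.1.2 q.2 q.2.2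
    exact ⟨⟨a, ha⟩, h⟩
  choose F hF using hsurj
  refine hlt.not_ge (Nat.card_le_card_of_injective F fun q r h => ?_)
  have hq := hF q
  rw [h] at hq
  refine Prod.ext (Subtype.ext ?_) (Subtype.ext ?_)
  · exact mul_right_cancel (hq.1.trans (hF r).1.symm)
  · exact mul_right_cancel (hq.2.trans (hF r).2.symm)

end H66.Powell
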