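import Mathlib

/-!
The derived series of a subgroup computed in the ambient group, and the property that all solvable
subgroups with two generators have derived length at most `d`; this property passes to sections.
-/

set_option autoImplicit false

open Subgroup
open scoped commutatorElement

namespace H66.Powell

variable {X : Type*} [Group X] {Y : Type*} [Group Y]

/-- The derived series of `J`, as subgroups of the ambient group. -/
def dser (J : Subgroup X) : ℕ → Subgroup X
  | 0 => J
  | n + 1 => ⁅dser J n, dser J n⁆

/-- All solvable two-generated subgroups have derived length at most `d`. -/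
def Bound (d : ℕ) (X : Type*) [Group X] : Prop :=
  ∀ a b : X, (∃ m, dser (closure {a, b}) m = ⊥) → dser (closure {a, b}) d = ⊥

theorem map_closure_pair (f : X →* Y) (a b : X) :
    (closure {a, b}).map f = closure {f a, f b} := by
  rw [MonoidHom.map_closure, Set.image_pair]

theorem map_dser (f : X →* Y) (J : Subgroup X) (n : ℕ) :
    (dser J n).map f = dser (J.map f) n := by
  induction n with
  | zero => rfl
  | succ n ih => simp only [dser, map_commutator, ih]

theorem dser_succ_le (J : Subgroup X) (n : ℕ) : dser J (n + 1) ≤ dser J n := by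
  rw [dser, commutator_le]
  intro a ha b hb
  rw [commutatorElement_def]
  exact mul_mem (mul_mem (mul_mem ha hb) (inv_mem ha)) (inv_mem hb)

theorem dser_antitone (J : Subgroup X) : Antitone (dser J) :=
  antitone_nat_of_succ_le (dser_succ_le J)

theorem dser_le (J : Subgroup X) (n : ℕ) : dser J n ≤ J := dser_antitone J (Nat.zero_le n)

theorem dser_mono {J K : Subgroup X} (h : J ≤ K) (n : ℕ) : dser J n ≤ dser K n := by
  induction n with
  | zero => exact h
  | succ n ih => exact commutator_mono ih ih

theorem dser_dser (J : Subgroup X) (m n : ℕ) : dser (dser J m) n = dser J (m + n) := by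
  induction n with
  | zero => rfl
  | succ n ih => rw [dser, ih, ← Nat.add_assoc, dser]

theorem map_derivedSeries_subtype (J : Subgroup X) (n : ℕ) :
    (derivedSeries J n).map J.subtype = dser J n := by
  induction n with
  | zero => rw [derivedSeries_zero, ← MonoidHom.range_eq_map, range_subtype]; rfl
  | succ n ih => rw [derivedSeries_succ, map_commutator, ih]; rfl

theorem exists_dser_eq_bot_of_isSolvable (J : Subgroup X) [Group.IsSolvable J] :
    ∃ n, dser J n = ⊥ := by
  obtain ⟨n, hn⟩ := (Group.isSolvable_def (G := J)).mp inferInstance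
  exact ⟨n, by rw [← map_derivedSeries_subtype, hn, Subgroup.map_bot]⟩

theorem dser_eq_self_of_succ (J : Subgroup X) {n : ℕ} (h : dser J (n + 1) = dser J n) :
    ∀ m, dser J (n + m) = dser J n := by
  intro m
  induction m with
  | zero => rfl
  | succ m ih => rw [← Nat.add_assoc, dser, ih]; exact h

/-- The derived series of a finite solvable subgroup reaches `⊥` before the group order. -/
theorem dser_card_eq_bot [Finite X] {J : Subgroup X} (h : ∃ m, dser J m = ⊥) :
    dser J (Nat.card X) = ⊥ := by
  obtain ⟨m, hm⟩ := h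
  have key : ∀ n, dser J n = ⊥ ∨ n + Nat.card (dser J n) ≤ Nat.card J := by
    intro n
    induction n with
    | zero => exact Or.inr (by simp [dser])
    | succ n ih =>
      rcases ih with h0 | hle
      · exact Or.inl (le_bot_iff.mp (h0 ▸ dser_succ_le J n))
      · by_cases heq : dser J (n + 1) = dser J n
        · left
          rw [heq, ← dser_eq_self_of_succ J heq m]
          exact le_bot_iff.mp (hm ▸ dser_antitone J (Nat.le_add_left m n))
        · right
          have hlt : Nat.card (dser J (n + 1)) < Nat.card (dser J n) := by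
            refine lt_of_le_of_ne (card_le_of_le (dser_succ_le J n)) fun hc => heq ?_
            exact eq_of_le_of_card_ge (dser_succ_le J n) hc.ge
          omega
  rcases key (Nat.card X) with h | h
  · exact h
  · have h1 : 0 < Nat.card (dser J (Nat.card X)) := Nat.card_pos
    have h2 := card_le_card_group J
    omega

/-- A two-element subset of a solvable image lifts to generators of a solvable subgroup. -/
theorem exists_solvable_lift [Finite X] (f : X →* Y) (x1 x2 : X)
    (h : ∃ m, dser (closure {f x1, f x2}) m = ⊥) :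
    ∃ a b : X, f a = f x1 ∧ f b = f x2 ∧ ∃ m, dser (closure {a, b}) m = ⊥ := by
  classical
  obtain ⟨E, hE, hmin⟩ := WellFounded.has_min (wellFounded_lt (α := Subgroup X))
    {E : Subgroup X | f x1 ∈ E.map f ∧ f x2 ∈ E.map f}
    ⟨⊤, ⟨x1, mem_top _, rfl⟩, ⟨x2, mem_top _, rfl⟩⟩
  obtain ⟨⟨a, ha, hfa⟩, ⟨b, hb, hfb⟩⟩ := hE
  have heq : closure {a, b} = E := by
    have hle : closure {a, b} ≤ E := by
      rw [closure_le]
      rintro _ (rfl | rfl) <;> assumption
    refine (eq_or_lt_of_le hle).resolve_right (hmin (closure {a, b}) ⟨?_, ?_⟩)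
    · exact ⟨a, subset_closure (by simp), hfa⟩
    · exact ⟨b, subset_closure (by simp), hfb⟩
  refine ⟨a, b, hfa, hfb, ?_⟩
  obtain ⟨m, hm⟩ := h
  rw [heq]
  have hker : dser E m ≤ f.ker := by
    rw [← Subgroup.map_eq_bot_iff, map_dser, ← heq, map_closure_pair, hfa, hfb, hm]
  have hfr : (dser E m).subgroupOf E ≤ frattini E := by
    refine le_iInf₂ fun M hM => ?_
    by_contra hnot
    have hsup : M ⊔ (dser E m).subgroupOf E = ⊤ :=
      hM.2 _ (lt_of_le_of_ne le_sup_left fun h => hnot (h ▸ le_sup_right))
    have hmap : E.map f = (M.map E.subtype).map f := by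
      have h2 := congrArg (fun K => (K.map E.subtype).map f) hsup
      simp only [Subgroup.map_sup, map_subgroupOf_eq_of_le (dser_le E m),
        ← MonoidHom.range_eq_map, range_subtype] at h2
      rw [← h2]
      refine sup_eq_left.mpr (le_trans ?_ bot_le)
      exact ((Subgroup.map_eq_bot_iff _).mpr hker).le
    apply hmin (M.map E.subtype) (Set.mem_ofPred_eq ▸ ⟨hmap ▸ ⟨a, ha, hfa⟩, hmap ▸ ⟨b, hb, hfb⟩⟩)
    refine lt_of_le_of_ne (map_subtype_le M) fun h => hM.1 ?_
    apply map_injective E.subtype_injective
    rw [h, ← MonoidHom.range_eq_map, range_subtype]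
  haveI : Group.IsNilpotent (frattini E) := frattini_nilpotent
  obtain ⟨n, hn⟩ := exists_dser_eq_bot_of_isSolvable (frattini E)
  refine ⟨m + n, ?_⟩
  have h1 : dser ((dser E m).subgroupOf E) n = ⊥ := le_bot_iff.mp (hn ▸ dser_mono hfr n)
  rw [← dser_dser, ← map_subgroupOf_eq_of_le (dser_le E m), ← map_dser, h1, Subgroup.map_bot]

theorem Bound.of_injective {d : ℕ} (hX : Bound d X) (f : Y →* X) (hf : Function.Injective f) :
    Bound d Y := by
  rintro a b ⟨m, hm⟩
  apply map_injective hf
  rw [Subgroup.map_bot, map_dser, map_closure_pair]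
  exact hX _ _ ⟨m, by rw [← map_closure_pair, ← map_dser, hm, Subgroup.map_bot]⟩

theorem Bound.of_surjective [Finite X] {d : ℕ} (hX : Bound d X) (f : X →* Y)
    (hf : Function.Surjective f) : Bound d Y := by
  intro y1 y2 h
  obtain ⟨x1, rfl⟩ := hf y1
  obtain ⟨x2, rfl⟩ := hf y2
  obtain ⟨a, b, hfa, hfb, hab⟩ := exists_solvable_lift f x1 x2 h
  rw [← hfa, ← hfb, ← map_closure_pair, ← map_dser, hX a b hab, Subgroup.map_bot]

theorem Bound.subgroup {d : ℕ} (hX : Bound d X) (L : Subgroup X) : Bound d L :=
  hX.of_injective L.subtype L.subtype_injective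

theorem Bound.quotient [Finite X] {d : ℕ} (hX : Bound d X) (N : Subgroup X) [N.Normal] :
    Bound d (X ⧸ N) :=
  hX.of_surjective (QuotientGroup.mk' N) (QuotientGroup.mk'_surjective N)

/-- A maximal derived length of a solvable two-generated subgroup. -/
theorem exists_bound (X : Type*) [Group X] [Finite X] [Nontrivial X] :
    ∃ k, Bound (k + 1) X ∧
      ∃ a b : X, (∃ m, dser (closure {a, b}) m = ⊥) ∧ dser (closure {a, b}) k ≠ ⊥ := by
  classical
  let P : ℕ → Prop := fun k =>
    ∃ a b : X, (∃ m, dser (closure {a, b}) m = ⊥) ∧ dser (closure {a, b}) k ≠ ⊥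
  have hP0 : P 0 := by
    obtain ⟨x, hx⟩ := exists_ne (1 : X)
    refine ⟨x, x, ?_, ?_⟩
    · refine ⟨1, ?_⟩
      simp only [dser, Set.mem_singleton_iff, Set.insert_eq_of_mem]
      rw [commutator_eq_bot_iff_le_centralizer, closure_le]
      intro y hy
      rw [Set.mem_singleton_iff] at hy
      subst hy
      rw [SetLike.mem_coe, mem_centralizer_iff]
      intro z hz
      rw [SetLike.mem_coe, mem_closure_singleton] at hz
      obtain ⟨n, rfl⟩ := hz
      exact ((Commute.refl y).zpow_left n).eq
    · simp only [dser, Set.mem_singleton_iff, Set.insert_eq_of_mem]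
      simpa [closure_eq_bot_iff] using hx
  set k := Nat.findGreatest P (Nat.card X)
  refine ⟨k, fun a b h => ?_, Nat.findGreatest_spec (Nat.zero_le _) hP0⟩
  by_contra hne
  rcases Nat.lt_or_ge (Nat.card X) (k + 1) with hlt | hge
  · exact hne (le_bot_iff.mp (dser_card_eq_bot h ▸ dser_antitone _ hlt.le))
  · exact Nat.findGreatest_is_greatest (lt_add_one k) hge ⟨a, b, h, hne⟩

end H66.Powell
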