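import Cfsg.Agent.H66.Powell.Core

/-!
If all solvable two-generated subgroups of `X` have derived length at most `k + 1` and `g` is an
`s`-element of the `k`-th derived subgroup of a solvable two-generated subgroup, then `g`
centralises every normal subgroup of order prime to `s`.
-/

set_option autoImplicit false

open Subgroup
open scoped commutatorElement

namespace H66.Powell

variable {W : Type*} [Group W]

theorem commute_elements_of_dser_succ {E : Subgroup W} {k : ℕ} (h : dser E (k + 1) = ⊥) {x y : W}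
    (hx : x ∈ dser E k) (hy : y ∈ dser E k) : x * y = y * x := by
  rw [← commutatorElement_eq_one_iff_mul_comm, ← mem_bot, ← h]
  exact commutator_mem_commutator hx hy

theorem conj_mem_dser {E : Subgroup W} {g : W} (hg : g ∈ E) (k : ℕ) {x : W} (hx : x ∈ dser E k) :
    g * x * g⁻¹ ∈ dser E k := by
  have hE : E.map (MulAut.conj g).toMonoidHom = E := by
    apply le_antisymm
    · rintro _ ⟨z, hz, rfl⟩
      exact mul_mem (mul_mem hg hz) (inv_mem hg)
    · intro z hz
      exact ⟨g⁻¹ * z * g, mul_mem (mul_mem (inv_mem hg) hz) hg, by simp [mul_assoc]⟩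
  have h := mem_map_of_mem (MulAut.conj g).toMonoidHom hx
  rw [map_dser, hE] at h
  simpa using h

/-- An `s`-element of the last derived subgroup centralises every normalised abelian `ℓ`-group. -/
theorem centralizes_abelian [Finite W] {ℓ s : ℕ} (hℓ : ℓ.Prime) (hs : s.Prime) (hne : ℓ ≠ s) {k : ℕ}
    (hW : Bound (k + 1) W) {A : Subgroup W} (hAℓ : IsPGroup ℓ A)
    (hAab : ∀ a ∈ A, ∀ b ∈ A, a * b = b * a) {e1 e2 : W}
    (hn : closure {e1, e2} ≤ normalizer (A : Set W))
    (hsol : ∃ m, dser (closure {e1, e2}) m = ⊥)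
    {γ : W} (hγ : γ ∈ dser (closure {e1, e2}) k) {e : ℕ} (hγs : γ ^ s ^ e = 1) :
    ∀ a ∈ A, γ * a = a * γ := by
  classical
  set E := closure {e1, e2}
  have hE1 : dser E (k + 1) = ⊥ := hW _ _ hsol
  let Γ : Subgroup W :=
    { carrier := {x | x ∈ dser E k ∧ ∃ n, x ^ s ^ n = 1}
      one_mem' := ⟨one_mem _, 0, by simp⟩
      mul_mem' := by
        rintro x y ⟨hx, n, hn⟩ ⟨hy, m, hm⟩
        refine ⟨mul_mem hx hy, n + m, ?_⟩
        rw [(show Commute x y from commute_elements_of_dser_succ hE1 hx hy).mul_pow, pow_add,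
          pow_mul, hn, one_pow, one_mul, mul_comm (s ^ n), pow_mul, hm, one_pow]
      inv_mem' := by
        rintro x ⟨hx, n, hn⟩
        exact ⟨inv_mem hx, n, by rw [inv_pow, hn, inv_one]⟩ }
  have hΓle : Γ ≤ dser E k := fun x hx => hx.1
  have hΓs : IsPGroup s Γ := fun x => x.2.2.imp fun n hn => Subtype.ext (by simpa using hn)
  have hΓn : E ≤ normalizer (Γ : Set W) := by
    rw [le_normalizer_iff]
    rintro g hg x ⟨hx, n, hn'⟩
    exact ⟨conj_mem_dser hg k hx, n, by rw [conj_pow, hn', mul_one, mul_inv_cancel]⟩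
  have hΓA : Γ ≤ normalizer (A : Set W) := hΓle.trans ((dser_le E k).trans hn)
  have hA1A : ⁅A, Γ⁆ ≤ A := by
    rw [commutator_le]
    intro a ha x hx
    have h := mul_mem ha (conj_mem_of_mem_normalizer (hΓA hx) (inv_mem ha))
    simpa [commutatorElement_def, mul_assoc] using h
  have hn1 : E ≤ normalizer ((⁅A, Γ⁆ : Subgroup W) : Set W) := by
    intro g hg
    rw [mem_normalizer_iff_map_conj_eq, map_commutator,
      mem_normalizer_iff_map_conj_eq.mp (hn hg), mem_normalizer_iff_map_conj_eq.mp (hΓn hg)]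
  by_cases hbot : ⁅A, Γ⁆ = ⊥
  · intro a ha
    exact (commutatorElement_eq_one_iff_mul_comm.mp (mem_bot.mp
      (hbot ▸ commutator_mem_commutator ha (show γ ∈ Γ from ⟨hγ, e, hγs⟩)))).symm
  haveI := Fact.mk hs
  exfalso
  refine no_abelian_section hℓ hs hne hW (hAℓ.to_le hA1A)
    (fun a ha b hb => hAab a (hA1A ha) b (hA1A hb)) hbot hn1 hsol hΓle hΓs hΓn ?_
  -- `⁅A, Γ⁆` has no nontrivial fixed points
  haveI : IsMulCommutative A := ⟨⟨fun a b => Subtype.ext (hAab a a.2 b b.2)⟩⟩
  letI : CommGroup A := IsMulCommutative.instCommGroup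
  haveI : Fintype Γ := Fintype.ofFinite _
  let c : Γ → A → A := fun x a =>
    ⟨x * a * (x : W)⁻¹, conj_mem_of_mem_normalizer (hΓA x.2) a.2⟩
  have hc : ∀ x a b, c x (a * b) = c x a * c x b := fun x a b =>
    Subtype.ext (by simp [c, mul_assoc])
  let N : A →* A := MonoidHom.mk' (fun a => ∏ x : Γ, c x a) fun a b => by
    rw [← Finset.prod_mul_distrib]
    exact Finset.prod_congr rfl fun x _ => hc x a b
  have hker : ∀ b ∈ ⁅A, Γ⁆, ∃ hb : b ∈ A, N ⟨b, hb⟩ = 1 := by
    have hle : ⁅A, Γ⁆ ≤ N.ker.map A.subtype := by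
      rw [commutator_le]
      intro a ha y hy
      refine ⟨⟨⁅a, y⁆, hA1A (commutator_mem_commutator ha hy)⟩, ?_, rfl⟩
      rw [SetLike.mem_coe, MonoidHom.mem_ker]
      have hsplit : (⟨⁅a, y⁆, hA1A (commutator_mem_commutator ha hy)⟩ : A) =
          ⟨a, ha⟩ * (c ⟨y, hy⟩ ⟨a, ha⟩)⁻¹ :=
        Subtype.ext (by simp [c, commutatorElement_def, mul_assoc])
      rw [hsplit, map_mul, map_inv, mul_inv_eq_one]
      calc N ⟨a, ha⟩ = ∏ x : Γ, c (x * ⟨y, hy⟩) ⟨a, ha⟩ :=
            (Equiv.prod_comp (Equiv.mulRight (⟨y, hy⟩ : Γ)) (fun x => c x ⟨a, ha⟩)).symm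
        _ = N (c ⟨y, hy⟩ ⟨a, ha⟩) :=
            Finset.prod_congr rfl fun x _ => Subtype.ext (by simp [c, mul_assoc])
    intro b hb
    obtain ⟨z, hz, rfl⟩ := hle hb
    exact ⟨z.2, hz⟩
  intro b hb hcomm
  obtain ⟨hbA, hN⟩ := hker b hb
  have hN' : (⟨b, hbA⟩ : A) ^ Fintype.card Γ = 1 := by
    rw [← Finset.card_univ, ← Finset.prod_const, ← hN]
    refine Finset.prod_congr rfl fun x _ => Subtype.ext ?_
    change b = x * b * (x : W)⁻¹
    rw [hcomm x x.2, mul_inv_cancel_right]
  obtain ⟨n, hn'⟩ := hΓs.exists_card_eq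
  obtain ⟨m, hm⟩ := hAℓ ⟨b, hbA⟩
  rw [← Nat.card_eq_fintype_card, hn'] at hN'
  exact congrArg Subtype.val (eq_one_of_two_prime_powers hℓ hs hne hm hN')

/-- An `s`-element of the last derived subgroup centralises every normalised `ℓ`-group. -/
theorem centralizes_pGroup [Finite W] {ℓ s : ℕ} (hℓ : ℓ.Prime) (hs : s.Prime) (hne : ℓ ≠ s) {k : ℕ}
    (hW : Bound (k + 1) W) {e1 e2 : W} (hsol : ∃ m, dser (closure {e1, e2}) m = ⊥)
    {γ : W} (hγ : γ ∈ dser (closure {e1, e2}) k) {e : ℕ} (hγs : γ ^ s ^ e = 1) (P : Subgroup W)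
    (hP : IsPGroup ℓ P) (hn : closure {e1, e2} ≤ normalizer (P : Set W)) :
    ∀ a ∈ P, γ * a = a * γ := by
  classical
  haveI := Fact.mk hℓ
  induction P using WellFoundedLT.induction with
  | _ P ih =>
  intro x hx
  by_cases hP0 : P = ⊥
  · rw [hP0, mem_bot] at hx
    simp [hx]
  set D := ⁅P, P⁆
  haveI : Group.IsNilpotent P := hP.isNilpotent
  haveI : Nontrivial P := (nontrivial_iff_ne_bot P).mpr hP0
  have hDlt : D < P := by
    have h : (commutator P).map P.subtype = D := P.map_subtype_commutator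
    refine lt_of_le_of_ne (h ▸ map_subtype_le _) fun he => ?_
    refine (Group.IsSolvable.commutator_lt_top_of_nontrivial (G := P)).ne ?_
    apply Subgroup.map_injective P.subtype_injective
    rw [h, he, ← MonoidHom.range_eq_map, range_subtype]
  have hDn : ∀ g ∈ normalizer (P : Set W), g ∈ normalizer (D : Set W) := by
    intro g hg
    rw [mem_normalizer_iff_map_conj_eq] at hg ⊢
    rw [map_commutator, hg]
  have hDcent : ∀ c ∈ D, γ * c = c * γ :=
    ih D hDlt (hP.to_le hDlt.le) (fun g hg => hDn g (hn hg))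
  -- work in the normaliser modulo the commutator subgroup
  set N := normalizer (P : Set W) with hNdef
  let P' : Subgroup N := P.subgroupOf N
  haveI : P'.Normal := normal_in_normalizer
  let q := QuotientGroup.mk' ⁅P', P'⁆
  have he1 : e1 ∈ N := hn (subset_closure (by simp))
  have he2 : e2 ∈ N := hn (subset_closure (by simp))
  let E' : Subgroup N := closure {⟨e1, he1⟩, ⟨e2, he2⟩}
  have hE' : E'.map N.subtype = closure {e1, e2} := map_closure_pair _ _ _
  have hmapE : ∀ j, (dser E' j).map N.subtype = dser (closure {e1, e2}) j := fun j => by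
    rw [map_dser, hE']
  obtain ⟨γ', hγ', hγ'eq⟩ : ∃ z ∈ dser E' k, N.subtype z = γ := by
    have h := hγ
    rw [← hmapE k] at h
    exact h
  have hq : q γ' * q ⟨x, le_normalizer hx⟩ = q ⟨x, le_normalizer hx⟩ * q γ' := by
    refine centralizes_abelian hℓ hs hne ((hW.subgroup N).quotient _) (A := P'.map q)
      (e1 := q ⟨e1, he1⟩) (e2 := q ⟨e2, he2⟩) (e := e) ?_ ?_ ?_ ?_ ?_ ?_ _ ⟨_, hx, rfl⟩
    · exact (hP.comap_of_injective N.subtype N.subtype_injective).map q
    · rintro _ ⟨a, ha, rfl⟩ _ ⟨b, hb, rfl⟩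
      rw [← commutatorElement_eq_one_iff_mul_comm, ← map_commutatorElement]
      exact (QuotientGroup.eq_one_iff _).mpr (commutator_mem_commutator ha hb)
    · rw [← map_closure_pair]
      haveI : (P'.map q).Normal := Normal.map inferInstance q (QuotientGroup.mk'_surjective _)
      exact le_normalizer_of_normal
    · obtain ⟨m, hm⟩ := hsol
      refine ⟨m, ?_⟩
      have h0 : dser E' m = ⊥ := by
        apply Subgroup.map_injective N.subtype_injective
        rw [hmapE, hm, Subgroup.map_bot]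
      rw [← map_closure_pair, ← map_dser, h0, Subgroup.map_bot]
    · rw [← map_closure_pair, ← map_dser]
      exact mem_map_of_mem q hγ'
    · have h0 : γ' ^ s ^ e = 1 := Subtype.ext (by simpa [← hγ'eq] using hγs)
      rw [← map_pow, h0, map_one]
  -- lift the commutation to `W`
  set c := γ * x * γ⁻¹ * x⁻¹ with hc
  have hcD : c ∈ D := by
    have h1 : ⁅γ', (⟨x, le_normalizer hx⟩ : N)⁆ ∈ ⁅P', P'⁆ := by
      refine (QuotientGroup.eq_one_iff _).mp ?_
      change q _ = 1
      rw [map_commutatorElement]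
      exact commutatorElement_eq_one_iff_mul_comm.mpr hq
    have h2 := mem_map_of_mem N.subtype h1
    rw [map_commutator, map_commutatorElement, hγ'eq,
      map_subgroupOf_eq_of_le le_normalizer] at h2
    exact h2
  have hpow : ∀ n : ℕ, γ ^ n * x * (γ ^ n)⁻¹ = c ^ n * x := by
    intro n
    induction n with
    | zero => simp
    | succ n hn' =>
      have hcγ : Commute γ (c ^ n) :=
        Commute.pow_right (show Commute γ c from hDcent c hcD) n
      calc γ ^ (n + 1) * x * (γ ^ (n + 1))⁻¹ = γ * (γ ^ n * x * (γ ^ n)⁻¹) * γ⁻¹ := by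
            rw [pow_succ']; group
        _ = c ^ n * (γ * x * γ⁻¹) := by
            rw [hn', ← mul_assoc, hcγ.eq]; group
        _ = c ^ (n + 1) * x := by rw [pow_succ, hc]; group
  obtain ⟨m, hm⟩ := hP ⟨c, hDlt.le hcD⟩
  have hc1 : c = 1 := by
    refine eq_one_of_two_prime_powers hℓ hs hne (m := m) (n := e)
      (by simpa using congrArg Subtype.val hm) ?_
    have h := hpow (s ^ e)
    rw [hγs] at h
    simpa using h.symm
  exact commutatorElement_eq_one_iff_mul_comm.mp hc1

theorem pow_eq_self_of_modEq {m N : ℕ} (h : m ≡ 1 [MOD N]) {q : W} (hq : q ^ N = 1) :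
    q ^ m = q := by
  rw [← Nat.div_add_mod m N, pow_add, pow_mul, hq, one_pow, one_mul, h]
  conv_rhs => rw [← pow_one q, ← Nat.div_add_mod 1 N, pow_add, pow_mul, hq, one_pow, one_mul]

/-- The `s`-part of an element. -/
theorem exists_pow_sPart [Finite W] {s : ℕ} (hs : s.Prime) (c : W) (n : ℕ) :
    ∃ m e : ℕ, (c ^ m) ^ s ^ e = 1 ∧ m ≡ 1 [MOD s ^ n] := by
  obtain ⟨e, r, hr, hcr⟩ := Nat.exists_eq_pow_mul_and_not_dvd (orderOf_pos c).ne' s hs.ne_one
  obtain ⟨m, hm0, hm1⟩ :=
    Nat.chineseRemainder ((hs.coprime_iff_not_dvd.mpr hr).pow_left n).symm 0 1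
  obtain ⟨u, rfl⟩ := Nat.modEq_zero_iff_dvd.mp hm0
  refine ⟨r * u, e, ?_, hm1⟩
  rw [← pow_mul, show r * u * s ^ e = orderOf c * u by rw [hcr]; ring, pow_mul, pow_orderOf_eq_one,
    one_pow]

end H66.Powell
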