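import Cfsg.Agent.H66.Powell.Key
import Cfsg.Agent.H10.PSolvableDual

/-!
Powell's theorem: a finite non-abelian simple group all of whose proper subgroups are `p`-soluble
can be generated by three elements.
-/

set_option autoImplicit false

open Subgroup Cfsg
open scoped commutatorElement

namespace H66.Powell

variable {X : Type*} [Group X]

/-- An `s`-element of a last derived subgroup centralises a normal subgroup of order prime to `s`. -/
theorem centralizes_normal [Finite X] {s : ℕ} (hs : s.Prime) {k : ℕ} (hX : Bound (k + 1) X)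
    {a b : X} (hsol : ∃ m, dser (closure {a, b}) m = ⊥) {g : X}
    (hg : g ∈ dser (closure {a, b}) k) {e : ℕ} (hgs : g ^ s ^ e = 1) (F : Subgroup X) [F.Normal]
    (hF : ¬ s ∣ Nat.card F) : ∀ f ∈ F, g * f = f * g := by
  classical
  haveI := Fact.mk hs
  set π := QuotientGroup.mk' F
  -- `g ∈ F · C(P)` for every Sylow subgroup `P` of `F`
  have hmem : ∀ ℓ : ℕ, ℓ.Prime → ℓ ≠ s → ∀ P : Sylow ℓ F, ∃ c,
      π c = π g ∧ ∀ x ∈ (P : Subgroup F).map F.subtype, c * x = x * c := by
    intro ℓ hℓ hne P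
    haveI := Fact.mk hℓ
    set P' := (P : Subgroup F).map F.subtype
    set N := normalizer (P' : Set X)
    have hsup : N ⊔ F = ⊤ := Sylow.normalizer_sup_eq_top P
    have honto : ∀ x : X, ∃ y ∈ N, π y = π x := by
      intro x
      obtain ⟨y, hy, f, hf, rfl⟩ := mem_sup_of_normal_right.mp (hsup ▸ mem_top x : x ∈ N ⊔ F)
      refine ⟨y, hy, ?_⟩
      rw [map_mul, show π f = 1 from (QuotientGroup.eq_one_iff f).mpr hf, mul_one]
    obtain ⟨a1, ha1, ha1'⟩ := honto a
    obtain ⟨b1, hb1, hb1'⟩ := honto b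
    have hsol' : ∃ m, dser (closure {(π.comp N.subtype) ⟨a1, ha1⟩,
        (π.comp N.subtype) ⟨b1, hb1⟩}) m = ⊥ := by
      obtain ⟨m, hm⟩ := hsol
      refine ⟨m, ?_⟩
      simp only [MonoidHom.comp_apply, coe_subtype, ha1', hb1']
      rw [← map_closure_pair, ← map_dser, hm, Subgroup.map_bot]
    obtain ⟨⟨e1, he1⟩, ⟨e2, he2⟩, h1, h2, m, hm⟩ := exists_solvable_lift _ _ _ hsol'
    simp only [MonoidHom.comp_apply, coe_subtype, ha1', hb1'] at h1 h2
    have hEsol : ∃ m, dser (closure {e1, e2}) m = ⊥ :=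
      ⟨m, by
        have h := congrArg (Subgroup.map N.subtype) hm
        rwa [Subgroup.map_bot, map_dser, map_closure_pair] at h⟩
    have hgim : π g ∈ (dser (closure {e1, e2}) k).map π := by
      rw [map_dser, map_closure_pair, h1, h2, ← map_closure_pair, ← map_dser]
      exact mem_map_of_mem π hg
    obtain ⟨γ0, hγ0, hγ0'⟩ := hgim
    obtain ⟨n, e', hγs, hn⟩ := exists_pow_sPart hs γ0 e
    refine ⟨γ0 ^ n, ?_, centralizes_pGroup hℓ hs hne hX hEsol (pow_mem hγ0 n) hγs P'
      (P.2.map F.subtype) ((closure_le _).mpr ?_)⟩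
    · rw [map_pow, hγ0']
      exact pow_eq_self_of_modEq hn (by rw [← map_pow, hgs, map_one])
    · rintro _ (rfl | rfl) <;> assumption
  -- hence the fixed points of `g` on `F` contain a Sylow subgroup for every prime
  set C := F ⊓ centralizer ({g} : Set X) with hC
  have hdvd : Nat.card F ∣ Nat.card C := by
    rw [Nat.dvd_iff_prime_pow_dvd_dvd]
    intro ℓ j hℓ hj
    by_cases hls : ℓ = s
    · subst hls
      cases j with
      | zero => simp
      | succ j => exact absurd ((dvd_pow_self ℓ j.succ_ne_zero).trans hj) hF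
    haveI := Fact.mk hℓ
    obtain ⟨P⟩ := (inferInstance : Nonempty (Sylow ℓ F))
    obtain ⟨c, hcg, hcP⟩ := hmem ℓ hℓ hls P
    obtain ⟨n, e', hcs, hn⟩ := exists_pow_sPart hs c e
    have hcg' : π (c ^ n) = π g := by
      rw [map_pow, hcg]; exact pow_eq_self_of_modEq hn (by rw [← map_pow, hgs, map_one])
    set d := c ^ n with hd
    have hdP : ∀ x ∈ (P : Subgroup F).map F.subtype, d * x = x * d := fun x hx =>
      (show Commute c x from hcP x hx).pow_left n
    -- `⟨d⟩` and `⟨g⟩` are Sylow subgroups of `F ⊔ ⟨g⟩`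
    set Y := F ⊔ zpowers g with hY
    have hcardY : ∀ z : X, π z = π g → ∀ i, z ^ s ^ i = 1 →
        ∃ Q : Sylow s Y, (Q : Subgroup Y) = (zpowers z).subgroupOf Y := by
      intro z hz i hzs
      have hzY : zpowers z ≤ Y := by
        rw [zpowers_le]
        have : z * g⁻¹ ∈ F := by
          rw [← QuotientGroup.eq_one_iff]
          change π (z * g⁻¹) = 1
          rw [map_mul, map_inv, hz, mul_inv_cancel]
        simpa using mul_mem (mem_sup_left (T := zpowers g) this) (mem_sup_right (mem_zpowers g))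
      have hzp : IsPGroup s (zpowers z) := by
        rw [IsPGroup.iff_card, Nat.card_zpowers]
        obtain ⟨t, -, ht⟩ := (Nat.dvd_prime_pow hs).mp (orderOf_dvd_of_pow_eq_one hzs)
        exact ⟨t, ht⟩
      have hidx : ¬ s ∣ ((zpowers z).subgroupOf Y).index := by
        intro h
        apply hF
        have hYz : Y = F ⊔ zpowers z := by
          refine le_antisymm (sup_le le_sup_left ?_) (sup_le le_sup_left hzY)
          rw [zpowers_le]
          have : g * z⁻¹ ∈ F := by
            rw [← QuotientGroup.eq_one_iff]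
            change π (g * z⁻¹) = 1
            rw [map_mul, map_inv, hz, mul_inv_cancel]
          simpa using mul_mem (mem_sup_left (T := zpowers z) this) (mem_sup_right (mem_zpowers z))
        refine h.trans (((zpowers z).subgroupOf Y).index_dvd_of_le le_rfl |>.trans ?_)
        change (zpowers z).relIndex Y ∣ _
        have hcard := Subgroup.card_mul_index ((zpowers z).subgroupOf Y)
        rw [Nat.card_congr (subgroupOfEquivOfLe hzY).toEquiv] at hcard
        have h2 : Nat.card Y ∣ Nat.card F * Nat.card (zpowers z) := by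
          rw [hYz]; exact H10.card_sup_dvd_mul F (zpowers z)
        rw [← hcard, mul_comm (Nat.card F)] at h2
        exact Nat.dvd_of_mul_dvd_mul_left Nat.card_pos h2
      exact ⟨(hzp.comap_of_injective Y.subtype Y.subtype_injective).toSylow hidx, rfl⟩
    obtain ⟨Qg, hQg⟩ := hcardY g rfl e hgs
    obtain ⟨Qd, hQd⟩ := hcardY d hcg' e' hcs
    obtain ⟨y, hy⟩ := MulAction.exists_smul_eq Y Qg Qd
    have hgY : g ∈ Y := mem_sup_right (mem_zpowers g)
    have hconj : (y : X) * g * (y : X)⁻¹ ∈ zpowers d := by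
      have h : y * ⟨g, hgY⟩ * y⁻¹ ∈ (Qd : Subgroup Y) := by
        rw [← hy, Sylow.smul_def, Sylow.pointwise_smul_def]
        refine ⟨⟨g, hgY⟩, ?_, rfl⟩
        rw [SetLike.mem_coe, hQg]
        exact mem_zpowers g
      rw [hQd] at h
      exact h
    -- `g` centralises the conjugate of `P` by `y⁻¹`
    have hle : ((P : Subgroup F).map F.subtype).map (MulAut.conj (y : X)⁻¹).toMonoidHom ≤ C := by
      rintro _ ⟨x, hx, rfl⟩
      have hxF : x ∈ F := map_subtype_le _ hx
      refine ⟨?_, mem_centralizer_singleton_iff.mpr ?_⟩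
      · simpa using (inferInstance : F.Normal).conj_mem x hxF (y : X)⁻¹
      obtain ⟨i, hi⟩ := mem_zpowers_iff.mp hconj
      have hcomm : Commute ((y : X) * g * (y : X)⁻¹) x := by
        rw [← hi]; exact (show Commute d x from hdP x hx).zpow_left i
      have := (Commute.conj_iff ((y : X)⁻¹)).mpr hcomm
      simpa [mul_assoc] using this.eq.symm
    refine dvd_trans ?_ (card_dvd_of_le hle)
    rw [card_map_of_injective (MulAut.conj (y : X)⁻¹).injective, card_subtype,
      P.card_eq_multiplicity]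
    exact Nat.pow_dvd_pow ℓ ((hℓ.pow_dvd_iff_le_factorization Nat.card_pos.ne').mp hj)
  have hFC : C = F := eq_of_le_of_card_ge inf_le_left (Nat.le_of_dvd Nat.card_pos hdvd)
  intro f hf
  rw [← hFC] at hf
  exact (mem_centralizer_singleton_iff.mp hf.2).symm

/-- An element of prime order of a last derived subgroup lies in the relevant core. -/
theorem mem_core [Finite X] {p : ℕ} [Fact p.Prime] (hX : IsPSolvable p X) {k : ℕ}
    (hb : Bound (k + 1) X) {a b : X} (hsol : ∃ m, dser (closure {a, b}) m = ⊥) {g : X}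
    (hg : g ∈ dser (closure {a, b}) k) {s : ℕ} (hs : s.Prime) (hgs : g ^ s = 1) :
    (s ≠ p → g ∈ pPrimeCore p X) ∧ (s = p → g ∈ pCore p X) := by
  have image : ∀ (R : Subgroup X) [R.Normal] (F : Subgroup (X ⧸ R)) [F.Normal],
      ¬ s ∣ Nat.card F → centralizer (F : Set (X ⧸ R)) ≤ F → g ∈ R := by
    intro R _ F _ hF hC
    rw [← QuotientGroup.eq_one_iff]
    set q := QuotientGroup.mk' R
    have hcomm := centralizes_normal hs (hb.quotient R) (a := q a) (b := q b) ?_ (g := q g) ?_
      (e := 1) (by rw [pow_one, ← map_pow, hgs, map_one]) F hF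
    · have hmem : q g ∈ F := hC (mem_centralizer_iff.mpr fun f hf => (hcomm f hf).symm)
      have h1 : orderOf (q g) ∣ Nat.card F := Subgroup.orderOf_dvd_natCard F hmem
      rcases (Nat.dvd_prime hs).mp (orderOf_dvd_of_pow_eq_one (show q g ^ s = 1 by
        rw [← map_pow, hgs, map_one])) with h | h
      · exact orderOf_eq_one_iff.mp h
      · exact absurd (h ▸ h1) hF
    · obtain ⟨m, hm⟩ := hsol
      exact ⟨m, by rw [← map_closure_pair, ← map_dser, hm, Subgroup.map_bot]⟩
    · rw [← map_closure_pair, ← map_dser]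
      exact mem_map_of_mem q hg
  refine ⟨fun hne => ?_, fun heq => ?_⟩
  · refine image _ (pCore p (X ⧸ pPrimeCore p X)) (fun h => hne ?_)
      (H10.centralizer_pCore_le (H10.isPSolvable_quotient hX _) H10.pPrimeCore_quotient_pPrimeCore)
    obtain ⟨n, hn⟩ := (H10.pCore_isPGroup (G := X ⧸ pPrimeCore p X) (p := p)).exists_card_eq
    exact (Nat.prime_dvd_prime_iff_eq hs Fact.out).mp (hs.dvd_of_dvd_pow (hn ▸ h))
  · refine image _ (pPrimeCore p (X ⧸ pCore p X)) (fun h => (H10.coprime_iff_not_dvd (p := p)).mp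
      H10.pPrimeCore_coprime (heq ▸ h))
      (H10.centralizer_pPrimeCore_le (H10.isPSolvable_quotient hX _) H10.pCore_quotient_pCore)

/-- If translation by `g ≠ 1` preserves the elements killed by exponents in `T`, all elements
are killed by exponents in `T`. -/
theorem forall_pow_eq_one_of_translation [IsSimpleGroup X] (T : ℕ → Prop) (h1 : T 1)
    (hT : ∀ m n, T m → T n → T (m * n)) {g : X} (hg : g ≠ 1)
    (hloc : ∀ a : X, ∃ L : Subgroup X, a ∈ L ∧ ∃ R : Subgroup L, R.Normal ∧
      (∃ hgL : g ∈ L, (⟨g, hgL⟩ : L) ∈ R) ∧ ∀ r ∈ R, ∃ n, T n ∧ r ^ n = 1) :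
    ∀ a : X, ∃ n, T n ∧ a ^ n = 1 := by
  set P : X → Prop := fun a => ∃ n, T n ∧ a ^ n = 1
  have step : ∀ a : X, P a ↔ P (a * g) := by
    intro a
    obtain ⟨L, ha, R, hR, ⟨hgL, hgR⟩, hRT⟩ := hloc a
    have key : ∀ x y : L, ∀ r ∈ R, y = x * r → P (x : X) → P (y : X) := by
      rintro x y r hr rfl ⟨n, hn, hxn⟩
      have hx : x ^ n = 1 := Subtype.ext (by simpa using hxn)
      have hmem : (x * r) ^ n ∈ R := by
        rw [← QuotientGroup.eq_one_iff]
        change QuotientGroup.mk' R _ = 1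
        rw [map_pow, map_mul, show QuotientGroup.mk' R r = 1 from
          (QuotientGroup.eq_one_iff r).mpr hr, mul_one, ← map_pow, hx, map_one]
      obtain ⟨m, hm, hmn⟩ := hRT _ hmem
      refine ⟨n * m, hT n m hn hm, ?_⟩
      rw [← pow_mul] at hmn
      simpa using congrArg Subtype.val hmn
    exact ⟨key ⟨a, ha⟩ ⟨a * g, mul_mem ha hgL⟩ ⟨g, hgL⟩ hgR rfl,
      key ⟨a * g, mul_mem ha hgL⟩ ⟨a, ha⟩ ⟨g, hgL⟩⁻¹ (inv_mem hgR) (Subtype.ext (by simp))⟩
  have hconj : ∀ h a : X, P a ↔ P (h * a * h⁻¹) := fun h a =>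
    exists_congr fun n => and_congr_right fun _ => by rw [conj_pow, conj_eq_one_iff]
  let S : Subgroup X :=
    { carrier := {w | ∀ a, P a ↔ P (a * w)}
      one_mem' := fun a => by rw [mul_one]
      mul_mem' := fun {v w} hv hw a => by rw [← mul_assoc]; exact (hv a).trans (hw (a * v))
      inv_mem' := fun {v} hv a => by
        have h := hv (a * v⁻¹)
        rw [inv_mul_cancel_right] at h
        exact h.symm }
  have hgS : ∀ h : X, h * g * h⁻¹ ∈ S := by
    intro h a
    rw [hconj h⁻¹ a, step, hconj h]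
    simp [mul_assoc]
  have htop : normalClosure ({g} : Set X) ≤ S := by
    refine (closure_le _).mpr fun w hw => ?_
    obtain ⟨_, rfl, hc⟩ := Group.mem_conjugatesOfSet_iff.mp hw
    obtain ⟨h, rfl⟩ := isConj_iff.mp hc
    exact hgS h
  rcases (normalClosure_normal (s := ({g} : Set X))).eq_bot_or_eq_top with h | h
  · exact absurd (h ▸ subset_normalClosure (Set.mem_singleton g) : g ∈ (⊥ : Subgroup X)) hg
  intro a
  have := (h ▸ htop : ⊤ ≤ S) (mem_top a) 1
  rw [one_mul] at this
  exact this.mp ⟨1, h1, pow_one 1⟩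

/-- **Powell**: such a group is generated by three elements. -/
theorem three_generated [Finite X] [IsSimpleGroup X] (hna : ¬ IsMulCommutative X) {p : ℕ}
    [Fact p.Prime] (hdvd : p ∣ Nat.card X)
    (hprop : ∀ H : Subgroup X, H ≠ ⊤ → IsPSolvable p H) :
    ∃ x y z : X, closure ({x, y, z} : Set X) = ⊤ := by
  classical
  by_contra hcon
  push Not at hcon
  obtain ⟨k, hk, z1, z2, hsol, hne⟩ := exists_bound X
  haveI : Nontrivial (dser (closure {z1, z2}) k) := (nontrivial_iff_ne_bot _).mpr hne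
  obtain ⟨s, hs, hsd⟩ := Nat.exists_prime_and_dvd
    (Finite.one_lt_card (α := dser (closure {z1, z2}) k)).ne'
  haveI := Fact.mk hs
  obtain ⟨⟨g, hgmem⟩, hgo⟩ := exists_prime_orderOf_dvd_card' s hsd
  rw [Subgroup.orderOf_mk] at hgo
  have hgs : g ^ s = 1 := hgo ▸ pow_orderOf_eq_one g
  have hg1 : g ≠ 1 := fun h => hs.ne_one (by rw [← hgo, h, orderOf_one])
  -- in a proper subgroup containing `z₁, z₂`, the element `g` lies in the core
  have core : ∀ a : X, ∃ L : Subgroup X, a ∈ L ∧ IsPSolvable p L ∧ ∃ hgL : g ∈ L,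
      (s ≠ p → (⟨g, hgL⟩ : L) ∈ pPrimeCore p L) ∧ (s = p → (⟨g, hgL⟩ : L) ∈ pCore p L) := by
    intro a
    set L := closure ({a, z1, z2} : Set X)
    have hsol' := hprop L (hcon a z1 z2)
    have h1 : z1 ∈ L := subset_closure (by simp)
    have h2 : z2 ∈ L := subset_closure (by simp)
    have hle : closure {z1, z2} ≤ L := closure_mono (by simp [Set.subset_def])
    have hgL : g ∈ L := hle (dser_le _ k hgmem)
    have hmap : ∀ j, (dser (closure {(⟨z1, h1⟩ : L), ⟨z2, h2⟩}) j).map L.subtype =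
        dser (closure {z1, z2}) j := fun j => by
      rw [map_dser, map_closure_pair]; rfl
    refine ⟨L, subset_closure (by simp), hsol', hgL, mem_core hsol' (hk.subgroup L)
      (a := ⟨z1, h1⟩) (b := ⟨z2, h2⟩) ?_ ?_ hs (Subtype.ext (by simpa using hgs))⟩
    · obtain ⟨m, hm⟩ := hsol
      exact ⟨m, Subgroup.map_injective L.subtype_injective (by rw [hmap, hm, Subgroup.map_bot])⟩
    · rw [← mem_map_iff_mem L.subtype_injective, hmap]
      exact hgmem
  by_cases hsp : s = p
  · -- then the group would be a `p`-group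
    have hall : ∀ a : X, ∃ n, (∃ j, n = p ^ j) ∧ a ^ n = 1 := by
      refine forall_pow_eq_one_of_translation (fun n => ∃ j, n = p ^ j) ⟨0, by simp⟩ ?_ hg1
        fun a => ?_
      · rintro _ _ ⟨i, rfl⟩ ⟨j, rfl⟩; exact ⟨i + j, (pow_add p i j).symm⟩
      obtain ⟨L, ha, -, hgL, -, hR⟩ := core a
      refine ⟨L, ha, pCore p L, inferInstance, ⟨hgL, hR hsp⟩, fun r hr => ?_⟩
      obtain ⟨j, hj⟩ := H10.pCore_isPGroup (⟨r, hr⟩ : pCore p L)
      exact ⟨_, ⟨j, rfl⟩, by simpa using congrArg Subtype.val hj⟩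
    have hX : IsPGroup p X := fun a => by
      obtain ⟨_, ⟨j, rfl⟩, h⟩ := hall a
      exact ⟨j, h⟩
    haveI : Group.IsNilpotent X := hX.isNilpotent
    exact hna ⟨⟨IsSimpleGroup.comm_iff_isSolvable.mpr inferInstance⟩⟩
  · -- then no element would have order `p`
    have hall : ∀ a : X, ∃ n, ¬ p ∣ n ∧ a ^ n = 1 := by
      refine forall_pow_eq_one_of_translation (fun n => ¬ p ∣ n)
        (Fact.out : p.Prime).not_dvd_one (fun m n => (Fact.out : p.Prime).not_dvd_mul) hg1
        fun a => ?_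
      obtain ⟨L, ha, -, hgL, hR, -⟩ := core a
      refine ⟨L, ha, pPrimeCore p L, inferInstance, ⟨hgL, hR hsp⟩, fun r hr =>
        ⟨Nat.card (pPrimeCore p L), H10.coprime_iff_not_dvd.mp H10.pPrimeCore_coprime, ?_⟩⟩
      have h1 := congrArg Subtype.val (pow_card_eq_one' (x := (⟨r, hr⟩ : pPrimeCore p L)))
      rw [SubmonoidClass.coe_pow, Subgroup.coe_one] at h1
      exact h1
    obtain ⟨a, ha⟩ := exists_prime_orderOf_dvd_card' p hdvd
    obtain ⟨n, hn, han⟩ := hall a
    exact hn (ha ▸ orderOf_dvd_of_pow_eq_one han)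

end H66.Powell
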